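import Mathlib
import Groth.Agent.Lib.Helper24.Rigid.Group
import Groth.Agent.Lib.Helper24.Rigid.Field

/-!
# Helper24 — abelian varieties are commutative
-/

set_option autoImplicit false
universe u

open AlgebraicGeometry CategoryTheory Limits TopologicalSpace IsLocalRing Opposite
open MonoidalCategory CartesianMonoidalCategory MonObj GrpObj

namespace Groth.Agent.Lib.Helper24.AbVar

variable (K : Type u) [Field K] (A : Over (Spec (CommRingCat.of K))) [GrpObj A]

/-- a proper geometrically integral group scheme over a field is commutative -/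
theorem mul_comm_of_proper [IsProper A.hom] [GeometricallyIntegral A.hom] :
    (snd A A : A ⊗ A ⟶ A) * fst A A = fst A A * snd A A := by
  haveI : IsLocallyNoetherian A.left := LocallyOfFiniteType.isLocallyNoetherian A.hom
  haveI : Flat A.hom := inferInstance
  have h0 : ∀ s, Function.Bijective (A.hom.fiberToSpecResidueField s).appTop.hom :=
    fun s => Rigid.bijective_appTop_fiber_of_field K A.hom s
  haveI : Subsingleton ↥(Spec (CommRingCat.of K)) :=
    inferInstanceAs (Subsingleton (PrimeSpectrum K))
  haveI : Nonempty ↥(Spec (CommRingCat.of K)) :=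
    inferInstanceAs (Nonempty (PrimeSpectrum K))
  haveI : IrreducibleSpace A.left :=
    GeometricallyIrreducible.irreducibleSpace_of_subsingleton (f := A.hom)
  let c : A ⊗ A ⟶ A := (fst A A * snd A A) * (snd A A * fst A A)⁻¹
  have h1 : lift (𝟙 A) (toUnit A ≫ η[A]) ≫ c = 1 := by
    simp only [c]
    rw [MonObj.comp_mul, GrpObj.comp_inv, MonObj.comp_mul, MonObj.comp_mul, lift_fst, lift_snd,
      ← Hom.one_def]
    simp
  obtain ⟨h, hh⟩ := Rigid.exists_eq_snd_comp (Spec (CommRingCat.of K)) A A A h0 η[A]
    (fun y => by
      rw [PreconnectedSpace.connectedComponent_eq_univ]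
      trivial) c h1
  have h2 : lift (toUnit A ≫ η[A]) (𝟙 A) ≫ c = 1 := by
    simp only [c]
    rw [MonObj.comp_mul, GrpObj.comp_inv, MonObj.comp_mul, MonObj.comp_mul, lift_fst, lift_snd,
      ← Hom.one_def]
    simp
  have h3 : h = 1 := by
    rw [hh, ← Category.assoc, lift_snd, Category.id_comp] at h2
    exact h2
  have h4 : c = 1 := by rw [hh, h3, MonObj.comp_one]
  have := mul_inv_eq_one.1 h4
  exact this.symm

instance isCommMonObj_of_proper [IsProper A.hom] [GeometricallyIntegral A.hom] :
    IsCommMonObj A where
  mul_comm := by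
    rw [MonObj.mul_eq_mul, MonObj.comp_mul]
    rw [braiding_hom_fst, braiding_hom_snd]
    exact mul_comm_of_proper K A

end Groth.Agent.Lib.Helper24.AbVar
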