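import Mathlib
import Groth.Agent.Lib.Helper24.AbVar.Comm
import Groth.Agent.Lib.Helper24.Tangent.StalkCongr
import Groth.Agent.Lib.Helper24.Tangent.Main4112

/-!
# Helper24 — multiplication by `d` on an abelian variety is étale iff `d` is invertible in `K`
-/

set_option autoImplicit false
universe u

open AlgebraicGeometry CategoryTheory Limits TopologicalSpace IsLocalRing Opposite
open MonoidalCategory CartesianMonoidalCategory MonObj GrpObj

namespace Groth.Agent.Lib.Helper24.AbVar

open Groth.Agent.Lib.Helper24.Tangent

variable (K : Type u) [Field K] (A : Over (Spec (CommRingCat.of K))) [GrpObj A]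

/-- the unit point is closed when `A` is separated -/
theorem isClosed_singleton_pt0 [IsSeparated A.hom] : IsClosed ({pt0 A η[A]} : Set A.left) := by
  haveI : IsClosedImmersion (η[A].left ≫ A.hom) := by
    rw [Over.w η[A]]
    exact inferInstanceAs (IsClosedImmersion (𝟙 (Spec (CommRingCat.of K))))
  haveI : IsClosedImmersion η[A].left := IsClosedImmersion.of_comp η[A].left A.hom
  have h := η[A].left.isClosedEmbedding.isClosed_range
  have e : Set.range η[A].left.base = {pt0 A η[A]} := by
    ext y
    constructor
    · rintro ⟨p, rfl⟩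
      have hp : p = (show ↥(Spec (CommRingCat.of K)) from closedPoint K) :=
        Subsingleton.elim (α := PrimeSpectrum K) _ _
      rw [hp]
      rfl
    · rintro rfl
      exact ⟨_, rfl⟩
  rw [← e]
  exact h

/-- if the `n`-th power map is unramified at the unit and `n = 0` in `K`, the local ring at the
unit is a field -/
theorem maximalIdeal_eq_bot_of_unramified [LocallyOfFiniteType A.hom] (n : ℕ) (hn : (n : K) = 0)
    (h : FormallyUnramified ((𝟙 A : A ⟶ A) ^ n).left) :
    maximalIdeal (A.left.presheaf.stalk (pt0 A η[A])) = ⊥ := by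
  haveI : IsLocallyNoetherian A.left := LocallyOfFiniteType.isLocallyNoetherian A.hom
  set e₀ := pt0 A η[A] with he₀
  set P : A ⟶ A := (𝟙 A : A ⟶ A) ^ n with hP
  haveI : LocallyOfFiniteType P.left := by
    have : LocallyOfFiniteType (P.left ≫ A.hom) := by rw [Over.w P]; infer_instance
    exact locallyOfFiniteType_of_comp P.left A.hom
  obtain ⟨i, σ, hσ⟩ := stalk_congr A n
  have hunr : (P.left.stalkMap e₀).hom.FormallyUnramified := FormallyUnramified.stalkMap P.left e₀
  have hmap : (maximalIdeal (A.left.presheaf.stalk (P.left.base e₀))).map (P.left.stalkMap e₀).hom =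
      maximalIdeal (A.left.presheaf.stalk e₀) := by
    algebraize [(P.left.stalkMap e₀).hom]
    have : IsLocalHom (algebraMap (A.left.presheaf.stalk (P.left.base e₀))
        (A.left.presheaf.stalk e₀)) :=
      inferInstanceAs <| IsLocalHom (P.left.stalkMap e₀).hom
    have : Algebra.EssFiniteType (A.left.presheaf.stalk (P.left.base e₀))
        (A.left.presheaf.stalk e₀) := by
      rw [← RingHom.essFiniteType_algebraMap, RingHom.algebraMap_toAlgebra]
      exact LocallyOfFiniteType.stalkMap P.left e₀
    have : Algebra.FormallyUnramified (A.left.presheaf.stalk (P.left.base e₀))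
        (A.left.presheaf.stalk e₀) := by
      rw [← RingHom.formallyUnramified_algebraMap, RingHom.algebraMap_toAlgebra]
      exact hunr
    exact Algebra.FormallyUnramified.map_maximalIdeal
  have hσm : (maximalIdeal (A.left.presheaf.stalk e₀)).map σ.hom.hom =
      maximalIdeal (A.left.presheaf.stalk (P.left.base e₀)) :=
    IsLocalRing.map_maximalIdeal_of_surjective _ σ.commRingCatIsoToRingEquiv.surjective
  have hle : maximalIdeal (A.left.presheaf.stalk e₀) ≤
      maximalIdeal (A.left.presheaf.stalk e₀) • maximalIdeal (A.left.presheaf.stalk e₀) := by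
    conv_lhs => rw [← hmap, ← hσm, Ideal.map_map]
    rw [Ideal.map_le_iff_le_comap]
    intro x hx
    have := hσ x hx
    rw [hn, map_zero, zero_mul, sub_zero, pow_two] at this
    exact this
  exact Submodule.eq_bot_of_le_smul_of_le_jacobson_bot _ _ (IsNoetherian.noetherian _) hle
    (by rw [IsLocalRing.jacobson_eq_maximalIdeal _ bot_ne_top])

/-- a point whose local ring is a field is a generic point of an irreducible scheme -/
theorem closure_singleton_eq_univ_of_isField {X : Scheme.{u}} [IrreducibleSpace X] (x : X)
    (hx : maximalIdeal (X.presheaf.stalk x) = ⊥) : closure ({x} : Set X) = Set.univ := by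
  have hgen := genericPoint_spec X
  have h1 : genericPoint X ⤳ x := hgen.specializes (by trivial)
  have h2 : genericPoint X ∈ Set.range (X.fromSpecStalk x).base := by
    rw [Scheme.range_fromSpecStalk]
    exact h1
  obtain ⟨z, hz⟩ := h2
  have hz' : z = closedPoint (X.presheaf.stalk x) := by
    have hfield : IsField (X.presheaf.stalk x) :=
      (IsLocalRing.isField_iff_maximalIdeal_eq).2 hx
    letI := hfield.toField
    exact Subsingleton.elim (α := PrimeSpectrum (X.presheaf.stalk x)) _ _
  rw [hz', Scheme.fromSpecStalk_closedPoint] at hz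
  rw [hz]
  exact hgen.def

theorem natCast_ne_zero_of_etale [IsProper A.hom] [GeometricallyIntegral A.hom]
    (hA : 0 < topologicalKrullDim A.left) (n : ℕ) (h : Etale ((𝟙 A : A ⟶ A) ^ n).left) :
    (n : K) ≠ 0 := by
  intro hn
  haveI : Subsingleton ↥(Spec (CommRingCat.of K)) :=
    inferInstanceAs (Subsingleton (PrimeSpectrum K))
  haveI : Nonempty ↥(Spec (CommRingCat.of K)) :=
    inferInstanceAs (Nonempty (PrimeSpectrum K))
  haveI : IrreducibleSpace A.left :=
    GeometricallyIrreducible.irreducibleSpace_of_subsingleton (f := A.hom)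
  have hm := maximalIdeal_eq_bot_of_unramified K A n hn inferInstance
  have hcl := closure_singleton_eq_univ_of_isField (pt0 A η[A]) hm
  rw [(isClosed_singleton_pt0 K A).closure_eq] at hcl
  haveI : Subsingleton A.left := by
    refine ⟨fun a b => ?_⟩
    have ha : a ∈ ({pt0 A η[A]} : Set A.left) := hcl ▸ Set.mem_univ a
    have hb : b ∈ ({pt0 A η[A]} : Set A.left) := hcl ▸ Set.mem_univ b
    rw [Set.mem_singleton_iff] at ha hb
    rw [ha, hb]
  have := topologicalKrullDim_zero_of_discreteTopology A.left
  exact absurd hA (not_lt.2 this)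

end Groth.Agent.Lib.Helper24.AbVar
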