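import Mathlib
import Groth.Agent.Lib.Helper24.AbVar.MulEtale

/-!
# Helper24 — S0382
-/

set_option autoImplicit false
universe u

open AlgebraicGeometry CategoryTheory Limits TopologicalSpace IsLocalRing Opposite
open MonoidalCategory CartesianMonoidalCategory MonObj GrpObj

namespace Groth.Agent.Lib.Helper24.AbVar

open Groth.Agent.Lib.Helper24.Tangent

variable (K : Type u) [Field K] (A : Over (Spec (CommRingCat.of K))) [GrpObj A]

theorem etale_inv_iff {X : Over (Spec (CommRingCat.of K))} (f : X ⟶ A) :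
    Etale (f⁻¹).left ↔ Etale f.left := by
  haveI : IsIso ι[A].left := (inferInstance : IsIso ((Over.forget _).map ι[A]))
  rw [Hom.inv_def, Over.comp_left]
  exact MorphismProperty.cancel_right_of_respectsIso @Etale f.left ι[A].left

theorem etale_pow_iff [IsProper A.hom] [GeometricallyIntegral A.hom]
    (hA : 0 < topologicalKrullDim A.left) (n : ℕ) :
    Etale ((𝟙 A : A ⟶ A) ^ n).left ↔ (n : K) ≠ 0 :=
  ⟨fun h => natCast_ne_zero_of_etale K A hA n h, fun h => main4112 A n h⟩

theorem main0382 [IsProper A.hom] [GeometricallyIntegral A.hom]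
    (hA : 0 < topologicalKrullDim A.left) (d : ℤ) :
    Etale ((𝟙 A : A ⟶ A) ^ d).left ↔ (d : K) ≠ 0 := by
  obtain ⟨n, rfl | rfl⟩ := Int.eq_nat_or_neg d
  · rw [zpow_natCast, Int.cast_natCast]
    exact etale_pow_iff K A hA n
  · rw [zpow_neg, zpow_natCast, etale_inv_iff, Int.cast_neg, Int.cast_natCast, neg_ne_zero]
    exact etale_pow_iff K A hA n

end Groth.Agent.Lib.Helper24.AbVar
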